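import Mathlib

/-!
The fixed field of an automorphism of prime (or any) order of a finite field.
-/

set_option autoImplicit false

namespace CfsgLib.FixedField

variable {F : Type*} [Field F]

/-- The fixed subfield of a ring automorphism. -/
def fixedSub (σ : F ≃+* F) : Subfield F := RingHom.eqLocusField (σ : F →+* F) (RingHom.id F)

theorem mem_fixedSub {σ : F ≃+* F} {x : F} : x ∈ fixedSub σ ↔ σ x = x := Iff.rfl

theorem card_pow [Fintype F] (σ : F ≃+* F) {r : ℕ} (hσ : orderOf σ = r) :
    Fintype.card F = Nat.card (fixedSub σ) ^ r := by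
  classical
  haveI : Finite (F ≃+* F) := Finite.of_injective (fun σ : F ≃+* F => (σ : F → F)) DFunLike.coe_injective
  let G := Subgroup.zpowers σ
  haveI : Fintype G := Fintype.ofFinite G
  haveI : FaithfulSMul G F := ⟨fun {a b} h => Subtype.ext (RingEquiv.ext h)⟩
  have hfin := FixedPoints.finrank_eq_card G F
  have hG : Fintype.card G = r := by
    rw [← Nat.card_eq_fintype_card, Nat.card_zpowers, hσ]
  have hset : Nat.card (FixedPoints.subfield G F) = Nat.card (fixedSub σ) := by
    refine Nat.card_congr (Equiv.subtypeEquivRight fun x => ?_)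
    constructor
    · intro h
      exact h ⟨σ, Subgroup.mem_zpowers σ⟩
    · rintro h ⟨τ, hτ⟩
      show τ x = x
      have hs : σ ∈ MulAction.stabilizer (F ≃+* F) x := h
      exact (Subgroup.zpowers_le.2 hs) hτ
  haveI : Finite (FixedPoints.subfield G F) := Subtype.finite
  rw [← hG, ← hfin, ← hset, ← Nat.card_eq_fintype_card]
  exact Module.natCard_eq_pow_finrank

theorem card_fixed [Fintype F] (σ : F ≃+* F) {q₀ r : ℕ} (hr : r ≠ 0) (hσ : orderOf σ = r)
    (hF : Fintype.card F = q₀ ^ r) : Nat.card (fixedSub σ) = q₀ :=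
  Nat.pow_left_injective hr ((card_pow σ hσ).symm.trans hF)

end CfsgLib.FixedField
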